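import Mathlib
import Cfsg.Agent.Lib.PStable.Stable
import Cfsg.Agent.Lib.Inverted.PairInvolution

/-!
A quadratic element outside the `p`-core modulo the centralizer commutes with an element of order
two modulo some normal subgroup.
-/

set_option autoImplicit false
set_option linter.style.haveILetI false

open scoped commutatorElement Matrix
open Cfsg

namespace Cfsg.Lib.Inverted

universe u

/-- Some normal subgroup above the centralizer of `B` has an element of order two modulo it which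
commutes with `x` modulo it. -/
def HasCommInvolution {G : Type u} [Group G] (B : Subgroup G) (x : G) : Prop :=
  ∃ N : Subgroup G, N.Normal ∧ Subgroup.centralizer (B : Set G) ≤ N ∧
    ∃ s : G, s ∉ N ∧ s ^ 2 ∈ N ∧ ⁅s, x⁆ ∈ N

open Cfsg.Lib.PStable in
theorem hasCommInvolution_elementary {G : Type u} [Group G] [Finite G] {p : ℕ} [Fact p.Prime]
    (hp : p ≠ 2) (V : Subgroup G) [V.Normal] (hV : Cfsg.IsElementaryAbelian p V) {x : G}
    (hq : ⁅⁅V, Subgroup.zpowers x⁆, Subgroup.zpowers x⁆ = ⊥)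
    (hx : (QuotientGroup.mk x : G ⧸ Subgroup.centralizer (V : Set G)) ∉
      pCore p (G ⧸ Subgroup.centralizer (V : Set G))) : HasCommInvolution V x := by
  classical
  haveI : NeZero p := ⟨(Fact.out : p.Prime).ne_zero⟩
  set C := Subgroup.centralizer (V : Set G)
  haveI : C.Normal := inferInstance
  letI : CommGroup V := { (inferInstance : Group V) with mul_comm := fun a b => hV.1.is_comm.comm a b }
  letI iMod := zmodOfExp p (A := V) (fun a => Subtype.ext (by simpa using hV.2 _ a.2))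
  let aut : G →* MulAut V := MulAut.conjNormal
  let ρG : G →* Module.End (ZMod p) (Additive V) := (endHom p).comp aut
  have hcj : ∀ (h : G) (v : Additive V), ((Additive.toMul (ρG h v) : V) : G)
      = h * ((Additive.toMul v : V) : G) * h⁻¹ := fun h v => rfl
  have hext : ∀ v w : Additive V, ((Additive.toMul v : V) : G) = ((Additive.toMul w : V) : G) → v = w :=
    fun v w e => Additive.toMul.injective (Subtype.ext e)
  have hker : ∀ g : G, (∀ v : Additive V, ρG g v = v) ↔ g ∈ C := by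
    intro g
    refine ⟨fun h => Subgroup.mem_centralizer_iff.mpr fun v hv => ?_, fun h v => hext _ _ ?_⟩
    · have := congrArg (fun u : Additive V => ((Additive.toMul u : V) : G))
        (h (Additive.ofMul ⟨v, hv⟩))
      have e : g * v * g⁻¹ = v := this
      exact (mul_inv_eq_iff_eq_mul.mp e).symm
    · rw [hcj, ← Subgroup.mem_centralizer_iff.mp h _ (Additive.toMul v : V).2, mul_inv_cancel_right]
  obtain ⟨gq, hgq⟩ : ∃ g : G ⧸ C, ¬ IsPGroup p
      ↥(Subgroup.closure ({(x : G ⧸ C), g * (x : G ⧸ C) * g⁻¹} : Set (G ⧸ C))) := by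
    by_contra hall
    push_neg at hall
    exact hx (Cfsg.Lib.ThreeT.baerSuzuki hall)
  obtain ⟨g, rfl⟩ := QuotientGroup.mk'_surjective C gq
  set y : G := g * x * g⁻¹ with hy
  set Ls : Subgroup G := Subgroup.closure ({x, y} : Set G) with hLs
  let ρ : Ls →* Module.End (ZMod p) (Additive V) := ρG.comp Ls.subtype
  let xL : Ls := ⟨x, Subgroup.subset_closure (Or.inl rfl)⟩
  let yL : Ls := ⟨y, Subgroup.subset_closure (Or.inr rfl)⟩
  have hgen : Subgroup.closure ({xL, yL} : Set Ls) = ⊤ := by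
    rw [eq_top_iff]
    rintro ⟨z, hz⟩ -
    have hz' : z ∈ (Subgroup.closure ({xL, yL} : Set Ls)).map Ls.subtype := by
      rw [MonoidHom.map_closure, Set.image_pair]; exact hz
    obtain ⟨w, hw, rfl⟩ := hz'
    exact hw
  have hxfix : ∀ v : Additive V, ρG x (ρG x v - v) = ρG x v - v := by
    intro v
    apply hext
    set w := (Additive.toMul v : V)
    have h1 : ⁅(w : G), x⁆ ∈ ⁅V, Subgroup.zpowers x⁆ :=
      Subgroup.commutator_mem_commutator w.2 (Subgroup.mem_zpowers x)
    have h2 : ⁅⁅(w : G), x⁆, x⁆ = 1 := by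
      rw [← Subgroup.mem_bot, ← hq]
      exact Subgroup.commutator_mem_commutator h1 (Subgroup.mem_zpowers x)
    have h3 : ⁅(w : G), x⁆ * x = x * ⁅(w : G), x⁆ := commutatorElement_eq_one_iff_mul_comm.mp h2
    have h5 : ((Additive.toMul (ρG x v - v) : V) : G) = ⁅(w : G), x⁆⁻¹ := by
      rw [toMul_sub, div_eq_mul_inv, Subgroup.coe_mul, Subgroup.coe_inv, hcj, commutatorElement_def]
      group
      rfl
    rw [hcj]
    show x * ((Additive.toMul (ρG x v - v) : V) : G) * x⁻¹ = _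
    rw [h5]
    calc x * ⁅(w : G), x⁆⁻¹ * x⁻¹ = (x * ⁅(w : G), x⁆ * x⁻¹)⁻¹ := by
          rw [_root_.mul_inv_rev, _root_.mul_inv_rev, inv_inv, mul_assoc]
      _ = ⁅(w : G), x⁆⁻¹ := by rw [← h3, mul_inv_cancel_right]
  have hyfix : ∀ v : Additive V, ρG y (ρG y v - v) = ρG y v - v := by
    intro v
    have e : ∀ u, ρG y u = ρG g (ρG x (ρG g⁻¹ u)) := fun u => by
      rw [hy, map_mul, map_mul]; rfl
    have einv : ∀ u, ρG g (ρG g⁻¹ u) = u := fun u => by
      rw [← Module.End.mul_apply, ← map_mul, mul_inv_cancel, map_one, Module.End.one_apply]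
    have einv' : ∀ u, ρG g⁻¹ (ρG g u) = u := fun u => by
      rw [← Module.End.mul_apply, ← map_mul, inv_mul_cancel, map_one, Module.End.one_apply]
    have key : ρG y v - v = ρG g (ρG x (ρG g⁻¹ v) - ρG g⁻¹ v) := by
      rw [map_sub, einv, e]
    rw [key, e, einv', hxfix]
  have hnp : ¬ ActsAsP ρ ⊤ := by
    intro hh
    apply hgq
    have hmap : Ls.map (QuotientGroup.mk' C) = Subgroup.closure
        ({(x : G ⧸ C), (g : G ⧸ C) * (x : G ⧸ C) * (g : G ⧸ C)⁻¹} : Set (G ⧸ C)) := by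
      rw [hLs, MonoidHom.map_closure, Set.image_pair, hy, map_mul, map_mul, map_inv]
      rfl
    show IsPGroup p ↥(Subgroup.closure
      ({(x : G ⧸ C), (g : G ⧸ C) * (x : G ⧸ C) * (g : G ⧸ C)⁻¹} : Set (G ⧸ C)))
    rw [← hmap]
    rintro ⟨_, l, hl, rfl⟩
    obtain ⟨i, hi⟩ := hh ⟨l, hl⟩
    refine ⟨i, Subtype.ext ?_⟩
    show (QuotientGroup.mk' C l) ^ p ^ i = 1
    rw [← map_pow]
    exact (QuotientGroup.eq_one_iff _).mpr ((hker _).mp fun v => hi v Submodule.mem_top)
  obtain ⟨L0, ψ, V1, π, hψ, hπ, -, hact⟩ :=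
    exists_natural_section hp ρ hgen (fun w => hxfix w) (fun w => hyfix w) hnp
  obtain ⟨l, hl⟩ := hψ (-1)
  set lG : G := (((l : L0) : Ls) : G) with hlG
  set n := orderOf (lG : G ⧸ C)
  have hn : lG ^ n ∈ C := by
    rw [← QuotientGroup.eq_one_iff, QuotientGroup.mk_pow]
    exact pow_orderOf_eq_one _
  have heven : Even n := by
    obtain ⟨v, hv⟩ := hπ ![1, 0]
    obtain ⟨h, e⟩ := hact (l ^ n) v
    have hfix : ρ ((l ^ n : L0) : Ls) (v : Additive V) = (v : Additive V) :=
      (hker _).mpr (by simpa [hlG] using hn) _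
    have hvv : (⟨ρ ((l ^ n : L0) : Ls) (v : Additive V), h⟩ : V1) = v := Subtype.ext hfix
    rw [hvv, map_pow, hl, hv] at e
    by_contra ho
    rw [Nat.not_even_iff_odd] at ho
    rw [ho.neg_one_pow] at e
    have e0 := congrFun e 0
    simp at e0
    have h2 : ((2 : ℕ) : ZMod p) = 0 := by
      push_cast
      linear_combination e0
    rw [ZMod.natCast_eq_zero_iff] at h2
    exact hp ((Nat.prime_dvd_prime_iff_eq (Fact.out : p.Prime) Nat.prime_two).mp h2)
  obtain ⟨m, hm⟩ := heven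
  have hn0 : 0 < n := orderOf_pos _
  refine ⟨C, inferInstance, le_rfl, lG ^ m, ?_, ?_, ?_⟩
  · intro h
    rw [← QuotientGroup.eq_one_iff, QuotientGroup.mk_pow] at h
    have := orderOf_dvd_of_pow_eq_one h
    have := Nat.le_of_dvd (by omega) this
    omega
  · rw [← pow_mul, show m * 2 = n by omega]
    exact hn
  · set z : Ls := ((l : L0) : Ls) ^ m with hz
    have hzG : (z : G) = lG ^ m := by simp [hz, hlG]
    have hz2 : ρ z * ρ z = 1 := by
      rw [← map_mul, hz, ← pow_add, ← hm]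
      refine LinearMap.ext fun v => (hker _).mpr (by simpa [hlG] using hn) v
    have h2 : ∀ r : Module.End (ZMod p) (Additive V), r + r = 0 → r = 0 := by
      intro r hr
      have h2' : ((2 : ℕ) : ZMod p) ≠ 0 := by
        rw [Ne, ZMod.natCast_eq_zero_iff]
        intro hd
        exact hp ((Nat.prime_dvd_prime_iff_eq (Fact.out : p.Prime) Nat.prime_two).mp hd)
      refine (smul_eq_zero.mp (show ((2 : ℕ) : ZMod p) • r = 0 from ?_)).resolve_left h2'
      rw [Nat.cast_smul_eq_nsmul, two_nsmul]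
      exact hr
    have hsq : ∀ u : Ls, (∀ w, ρ u (ρ u w - w) = ρ u w - w) → (ρ u - 1) * (ρ u - 1) = 0 := by
      intro u hu
      refine LinearMap.ext fun w => ?_
      simp only [Module.End.mul_apply, LinearMap.sub_apply, Module.End.one_apply, LinearMap.zero_apply]
      rw [hu, sub_self]
    have hc := commute_of_sq_eq_one ρ hgen (hsq xL hxfix) (hsq yL hyfix) h2 hz2
    rw [← hzG, ← QuotientGroup.eq_one_iff]
    refine (QuotientGroup.eq_one_iff _).mpr ((hker _).mp fun v => ?_)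
    have e : ρ (z * xL * z⁻¹ * xL⁻¹) = 1 := by
      rw [map_mul, map_mul, map_mul, hc, mul_assoc (ρ xL), ← map_mul, mul_inv_cancel, map_one,
        mul_one, ← map_mul, mul_inv_cancel, map_one]
    have := LinearMap.congr_fun e v
    rw [commutatorElement_def]
    exact this

theorem hasCommInvolution {p : ℕ} [Fact p.Prime] (hp : p ≠ 2) (n : ℕ) :
    ∀ (G : Type u) [Group G] [Finite G] (B : Subgroup G) [B.Normal], IsPGroup p B → Nat.card B = n →
    ∀ x : G, ⁅⁅B, Subgroup.zpowers x⁆, Subgroup.zpowers x⁆ = ⊥ →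
      (QuotientGroup.mk x : G ⧸ Subgroup.centralizer (B : Set G)) ∉
        pCore p (G ⧸ Subgroup.centralizer (B : Set G)) → HasCommInvolution B x := by
  induction n using Nat.strong_induction_on with
  | _ n IH =>
  intro G _ _ B _ hB hn x hq hx
  haveI : NeZero p := ⟨(Fact.out : p.Prime).ne_zero⟩
  set C := Subgroup.centralizer (B : Set G)
  haveI : C.Normal := inferInstance
  have hB1 : B ≠ ⊥ := by
    intro h
    refine hx ?_
    have : x ∈ C := Subgroup.mem_centralizer_iff.mpr fun b hb => by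
      rw [SetLike.mem_coe, h, Subgroup.mem_bot] at hb
      simp [hb]
    rw [(QuotientGroup.eq_one_iff x).mpr this]
    exact one_mem _
  let Z : Subgroup G :=
    { carrier := {z | z ∈ B ∧ z ^ p = 1 ∧ ∀ y ∈ B, y * z = z * y}
      one_mem' := ⟨one_mem _, one_pow _, fun y _ => by simp⟩
      mul_mem' := fun {a b} ⟨ha, ha', hac⟩ ⟨hb, hb', hbc⟩ =>
        ⟨mul_mem ha hb, by rw [(show Commute a b from hbc a ha).mul_pow, ha', hb', one_mul],
          fun y hy => by rw [← mul_assoc, hac y hy, mul_assoc, hbc y hy, mul_assoc]⟩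
      inv_mem' := fun {a} ⟨ha, ha', hac⟩ =>
        ⟨inv_mem ha, by rw [inv_pow, ha', inv_one],
          fun y hy => (Commute.inv_right (hac y hy : Commute y a)).eq⟩ }
  have hZB : Z ≤ B := fun z hz => hz.1
  have hZne : Z ≠ ⊥ := by
    haveI : Nontrivial B := (Subgroup.nontrivial_iff_ne_bot B).mpr hB1
    haveI := hB.center_nontrivial
    obtain ⟨k, hk⟩ := (hB.to_subgroup (Subgroup.center B)).exists_card_eq
    obtain ⟨z, hz⟩ := exists_prime_orderOf_dvd_card' (G := Subgroup.center B) p (by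
      rw [hk]
      refine dvd_pow_self p fun h0 => ?_
      rw [h0, pow_zero] at hk
      exact absurd hk (Finite.one_lt_card).ne')
    intro h
    have : ((z : B) : G) ∈ Z := ⟨(z : B).2, by
      have h1 : z ^ p = 1 := by rw [← hz, pow_orderOf_eq_one]
      exact congrArg (fun w : Subgroup.center B => ((w : B) : G)) h1,
      fun y hy => congrArg Subtype.val (Subgroup.mem_center_iff.mp z.2 ⟨y, hy⟩)⟩
    rw [h, Subgroup.mem_bot] at this
    rw [show z = 1 from Subtype.ext (Subtype.ext this), orderOf_one] at hz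
    exact (Fact.out : p.Prime).one_lt.ne hz
  haveI hZn : Z.Normal := ⟨fun z ⟨hz, hz', hzc⟩ a =>
    ⟨(inferInstance : B.Normal).conj_mem z hz a, by rw [conj_pow, hz', mul_one, mul_inv_cancel],
      fun y hy => by
        have hy' : a⁻¹ * y * a ∈ B := by simpa using (inferInstance : B.Normal).conj_mem y hy a⁻¹
        calc y * (a * z * a⁻¹) = a * ((a⁻¹ * y * a) * z) * a⁻¹ := by group
          _ = a * (z * (a⁻¹ * y * a)) * a⁻¹ := by rw [hzc _ hy']
          _ = a * z * a⁻¹ * y := by group⟩⟩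
  have hZel : Cfsg.IsElementaryAbelian p Z :=
    ⟨⟨⟨fun a b => Subtype.ext (b.2.2.2 a (hZB a.2))⟩⟩, fun a ha => ha.2.1⟩
  set CZ := Subgroup.centralizer (Z : Set G)
  haveI : CZ.Normal := inferInstance
  have hCZ : C ≤ CZ := Subgroup.centralizer_le hZB
  by_cases h2 : (QuotientGroup.mk x : G ⧸ CZ) ∈ pCore p (G ⧸ CZ)
  swap
  · obtain ⟨N, hNn, hCN, hs⟩ := hasCommInvolution_elementary hp Z hZel (le_bot_iff.mp
      ((Subgroup.commutator_mono (Subgroup.commutator_mono hZB le_rfl) le_rfl).trans hq.le)) h2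
    exact ⟨N, hNn, hCZ.trans hCN, hs⟩
  set q1 := QuotientGroup.mk' Z
  have hq1s : Function.Surjective q1 := QuotientGroup.mk'_surjective Z
  set B1 := B.map q1
  haveI : B1.Normal := Subgroup.Normal.map inferInstance q1 hq1s
  haveI : (Subgroup.centralizer (B1 : Set (G ⧸ Z))).Normal := inferInstance
  have hlt : Nat.card B1 < n := by
    have h1 : Nat.card B1 * Nat.card Z = n := by
      rw [← hn, ← Subgroup.relIndex_ker (K := B) q1, QuotientGroup.ker_mk', mul_comm]
      exact Subgroup.card_mul_index (Z.subgroupOf B) |> fun h => by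
        rwa [Nat.card_congr (Subgroup.subgroupOfEquivOfLe hZB).toEquiv] at h
    have h2' : 1 < Nat.card Z := by
      haveI : Nontrivial Z := (Subgroup.nontrivial_iff_ne_bot Z).mpr hZne
      exact Finite.one_lt_card
    have h3 : 0 < Nat.card B1 := Nat.card_pos
    rw [← h1]
    exact lt_mul_of_one_lt_right h3 h2'
  by_cases h1 : (QuotientGroup.mk (q1 x) : (G ⧸ Z) ⧸ Subgroup.centralizer (B1 : Set (G ⧸ Z))) ∈
      pCore p ((G ⧸ Z) ⧸ Subgroup.centralizer (B1 : Set (G ⧸ Z)))
  swap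
  · obtain ⟨N, hNn, hCN, s, hsN, hs2, hsx⟩ := IH _ hlt (G ⧸ Z) B1 (hB.map q1) rfl (q1 x) (by
      rw [← MonoidHom.map_zpowers, ← Subgroup.map_commutator, ← Subgroup.map_commutator, hq,
        Subgroup.map_bot]) h1
    obtain ⟨s, rfl⟩ := hq1s s
    haveI := hNn
    refine ⟨N.comap q1, inferInstance, fun c hc => hCN ?_, s, hsN, ?_, ?_⟩
    · rw [Subgroup.mem_centralizer_iff]
      rintro _ ⟨b, hb, rfl⟩
      rw [← map_mul, ← map_mul, Subgroup.mem_centralizer_iff.mp hc b hb]
    · rw [Subgroup.mem_comap, map_pow]; exact hs2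
    · rw [Subgroup.mem_comap, map_commutatorElement]; exact hsx
  exfalso
  set D1 := ((pCore p ((G ⧸ Z) ⧸ Subgroup.centralizer (B1 : Set (G ⧸ Z)))).comap
    (QuotientGroup.mk' _)).comap q1 with hD1
  set D2 := (pCore p (G ⧸ CZ)).comap (QuotientGroup.mk' CZ) with hD2
  haveI : (pCore p ((G ⧸ Z) ⧸ Subgroup.centralizer (B1 : Set (G ⧸ Z)))).Normal :=
    Cfsg.Lib.Transfer.pCore_normal p
  haveI : (pCore p (G ⧸ CZ)).Normal := Cfsg.Lib.Transfer.pCore_normal p
  haveI : D1.Normal := inferInstance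
  haveI : D2.Normal := inferInstance
  refine hx (Cfsg.Lib.Solv.le_pCore
    (Subgroup.Normal.map (inferInstance : (D1 ⊓ D2).Normal) (QuotientGroup.mk' C)
      (QuotientGroup.mk'_surjective _)) ?_ ⟨x, ⟨h1, h2⟩, rfl⟩)
  rintro ⟨_, d, ⟨hd1, hd2⟩, rfl⟩
  obtain ⟨i, hi⟩ := Cfsg.Lib.Solv.isPGroup_pCore p ⟨_, hd1⟩
  obtain ⟨j, hj⟩ := Cfsg.Lib.Solv.isPGroup_pCore p ⟨_, hd2⟩
  have hjZ : d ^ p ^ j ∈ CZ := by
    rw [← QuotientGroup.eq_one_iff, QuotientGroup.mk_pow]
    exact congrArg Subtype.val hj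
  have hi' : q1 (d ^ p ^ i) ∈ Subgroup.centralizer (B1 : Set (G ⧸ Z)) := by
    rw [← QuotientGroup.eq_one_iff, map_pow, QuotientGroup.mk_pow]
    exact congrArg Subtype.val hi
  set m : G := d ^ (p ^ i * p ^ j) with hm
  have hmZ : m ∈ CZ := by
    rw [hm, mul_comm, pow_mul]; exact pow_mem hjZ _
  have hmB : ∀ y ∈ B, y⁻¹ * (m * y * m⁻¹) ∈ Z := by
    intro y hy
    have h3 : q1 m ∈ Subgroup.centralizer (B1 : Set (G ⧸ Z)) := by
      rw [hm, pow_mul, map_pow]; exact pow_mem hi' _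
    have h4 := Subgroup.mem_centralizer_iff.mp h3 (q1 y) ⟨y, hy, rfl⟩
    rw [← QuotientGroup.eq_one_iff]
    show q1 (y⁻¹ * (m * y * m⁻¹)) = 1
    rw [map_mul, map_mul, map_mul, map_inv, map_inv, ← h4]
    group
  refine ⟨i + j + 1, Subtype.ext ?_⟩
  show (QuotientGroup.mk' C d) ^ p ^ (i + j + 1) = 1
  rw [← map_pow]
  refine (QuotientGroup.eq_one_iff _).mpr (Subgroup.mem_centralizer_iff.mpr fun y hy => ?_)
  set z := y⁻¹ * (m * y * m⁻¹) with hz
  obtain ⟨-, hzp, -⟩ := hmB y hy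
  have hzm : m * z * m⁻¹ = z := by
    rw [mul_inv_eq_iff_eq_mul]
    exact (Subgroup.mem_centralizer_iff.mp hmZ z (hmB y hy)).symm
  have hk : ∀ k : ℕ, m ^ k * y * (m ^ k)⁻¹ = y * z ^ k := by
    intro k
    induction k with
    | zero => simp
    | succ k ih =>
      calc m ^ (k + 1) * y * (m ^ (k + 1))⁻¹ = m * (m ^ k * y * (m ^ k)⁻¹) * m⁻¹ := by
            rw [pow_succ']; group
        _ = (m * y * m⁻¹) * (m * z * m⁻¹) ^ k := by rw [ih, conj_pow]; group
        _ = y * z ^ (k + 1) := by rw [hzm, pow_succ', ← mul_assoc, hz, mul_inv_cancel_left]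
  have := hk p
  rw [hzp, mul_one, mul_inv_eq_iff_eq_mul] at this
  rw [pow_succ, pow_add, pow_mul, ← hm]
  exact this.symm

end Cfsg.Lib.Inverted
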