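import Mathlib
import Cfsg.Agent.Lib.Solv.RealElements
import Cfsg.Agent.Lib.Inverted.QuadraticCentralizer
import Cfsg.Agent.Lib.Inverted.Witness

/-!
If an element of `p`-power order, `p` odd, is inverted in a finite group then some such element is
inverted inside the normalizer of `Z(J(T))`, `T` a Sylow `p`-subgroup.
-/

set_option autoImplicit false
set_option linter.style.haveILetI false

open scoped commutatorElement
open Cfsg Cfsg.Lib.PLocal

namespace Cfsg.Lib.Inverted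

universe u

/-- `H` has a nontrivial element of `p`-power order inverted inside `H`. -/
def HasInverted {G : Type u} [Group G] (p : ℕ) (H : Subgroup G) : Prop :=
  ∃ d ∈ H, d ≠ 1 ∧ (∃ k : ℕ, d ^ p ^ k = 1) ∧ ∃ g ∈ H, g * d * g⁻¹ = d⁻¹

variable {G : Type u} [Group G] {p : ℕ}

theorem HasInverted.mono {H K : Subgroup G} (h : HasInverted p H) (hHK : H ≤ K) : HasInverted p K := by
  obtain ⟨d, hd, h1, h2, g, hg, h3⟩ := h
  exact ⟨d, hHK hd, h1, h2, g, hHK hg, h3⟩

theorem HasInverted.map {G' : Type u} [Group G'] (f : G →* G') {H : Subgroup G}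
    (h : HasInverted p H) (hf : Set.InjOn f H) : HasInverted p (H.map f) := by
  obtain ⟨d, hd, h1, ⟨k, h2⟩, g, hg, h3⟩ := h
  refine ⟨f d, ⟨d, hd, rfl⟩, fun e => h1 (hf hd (one_mem H) (by rw [e, map_one])),
    ⟨k, by rw [← map_pow, h2, map_one]⟩, f g, ⟨g, hg, rfl⟩, ?_⟩
  rw [← map_inv, ← map_mul, ← map_mul, h3, map_inv]

theorem hasInverted_top_of {H : Subgroup G} (h : HasInverted p H) : HasInverted p (⊤ : Subgroup H) := by
  obtain ⟨d, hd, h1, ⟨k, h2⟩, g, hg, h3⟩ := h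
  exact ⟨⟨d, hd⟩, trivial, fun e => h1 (congrArg Subtype.val e), ⟨k, Subtype.ext h2⟩, ⟨g, hg⟩, trivial,
    Subtype.ext h3⟩

section Finite

variable [Finite G] [Fact p.Prime]

/-- An element of two power order acting nontrivially on a `p`-group inverts some element. -/
theorem hasInverted_of_act (hp : p ≠ 2) {R H : Subgroup G} (hR : IsPGroup p R) (hRH : R ≤ H) {g : G}
    (hgH : g ∈ H) (hgN : g ∈ Subgroup.normalizer (R : Set G)) (hg2 : ∃ j, orderOf g = 2 ^ j)
    (hgC : g ∉ Subgroup.centralizer (R : Set G)) : HasInverted p H := by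
  classical
  obtain ⟨j, hj⟩ := hg2
  have hex : ∃ i, g ^ 2 ^ i ∈ Subgroup.centralizer (R : Set G) := ⟨j, by
    rw [← hj, pow_orderOf_eq_one]; exact one_mem _⟩
  set i := Nat.find hex
  have hi : g ^ 2 ^ i ∈ Subgroup.centralizer (R : Set G) := Nat.find_spec hex
  have hi0 : i ≠ 0 := fun e => hgC (by rw [e, pow_zero, pow_one] at hi; exact hi)
  obtain ⟨i', hi'⟩ := Nat.exists_eq_succ_of_ne_zero hi0
  set s := g ^ 2 ^ i' with hs
  have hsC : s ∉ Subgroup.centralizer (R : Set G) := Nat.find_min hex (by omega)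
  have hs2 : s * s ∈ Subgroup.centralizer (R : Set G) := by
    rwa [hs, ← pow_add, ← two_mul, ← pow_succ', ← Nat.succ_eq_add_one, ← hi']
  have hsN : s ∈ Subgroup.normalizer (R : Set G) := pow_mem hgN _
  obtain ⟨r, hr, hrs⟩ : ∃ r ∈ R, s * r * s⁻¹ ≠ r := by
    by_contra hc
    push Not at hc
    exact hsC (Subgroup.mem_centralizer_iff.2 fun r hr => (mul_inv_eq_iff_eq_mul.1 (hc r hr)).symm)
  have hrR : s * r * s⁻¹ ∈ R := (Subgroup.mem_normalizer_iff.1 hsN r).1 hr
  refine ⟨r⁻¹ * (s * r * s⁻¹), hRH (mul_mem (inv_mem hr) hrR), ?_, ?_, s, pow_mem hgH _, ?_⟩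
  · intro e
    exact hrs (inv_mul_eq_one.1 e).symm
  · obtain ⟨k, hk⟩ := hR ⟨_, mul_mem (inv_mem hr) hrR⟩
    exact ⟨k, congrArg Subtype.val hk⟩
  · have e : (s * s) * r * (s * s)⁻¹ = r :=
      mul_inv_eq_iff_eq_mul.2 (Subgroup.mem_centralizer_iff.1 hs2 r hr).symm
    calc s * (r⁻¹ * (s * r * s⁻¹)) * s⁻¹ = (s * r * s⁻¹)⁻¹ * ((s * s) * r * (s * s)⁻¹) := by group
      _ = _ := by rw [e]; group

/-- An odd power of an element has two power order. -/
theorem exists_odd_pow (g : G) : ∃ m : ℕ, Odd m ∧ ∃ j, orderOf (g ^ m) = 2 ^ j := by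
  obtain ⟨a, m, hm, hord⟩ :=
    Nat.exists_eq_pow_mul_and_not_dvd (orderOf_pos g).ne' 2 (by norm_num)
  refine ⟨m, Nat.not_even_iff_odd.1 fun he => hm (even_iff_two_dvd.1 he), a, ?_⟩
  have hm0 : m ≠ 0 := by rintro rfl; exact hm (dvd_zero 2)
  rw [orderOf_pow_of_dvd hm0 (hord ▸ dvd_mul_left _ _), hord, Nat.mul_div_cancel _ (Nat.pos_of_ne_zero hm0)]

/-- An inverted element of `G ⧸ N` yields an inverted element of the preimage. -/
theorem HasInverted.comap (hp : p ≠ 2) (N : Subgroup G) [N.Normal] {H : Subgroup (G ⧸ N)}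
    (h : HasInverted p H) : HasInverted p (H.comap (QuotientGroup.mk' N)) := by
  obtain ⟨d', hd', h1, ⟨k, h2⟩, g', hg', h3⟩ := h
  set q := QuotientGroup.mk' N with hq
  obtain ⟨d0, rfl⟩ := QuotientGroup.mk'_surjective N d'
  obtain ⟨g0, rfl⟩ := QuotientGroup.mk'_surjective N g'
  -- a lift of `p`-power order
  obtain ⟨a, c, hc, hord⟩ :=
    Nat.exists_eq_pow_mul_and_not_dvd (orderOf_pos d0).ne' p (Fact.out : p.Prime).ne_one
  set d := d0 ^ c with hd
  have hdp : d ^ p ^ a = 1 := by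
    rw [hd, ← pow_mul, mul_comm, ← hord, pow_orderOf_eq_one]
  have hqd : q d ≠ 1 := by
    intro e
    rw [hd, map_pow] at e
    refine h1 (orderOf_eq_one_iff.1 (Nat.eq_one_of_dvd_coprimes ?_ (orderOf_dvd_of_pow_eq_one h2)
      (orderOf_dvd_of_pow_eq_one e)))
    exact Nat.Coprime.pow_left k ((Fact.out : p.Prime).coprime_iff_not_dvd.2 hc)
  have hinv : q g0 * q d * (q g0)⁻¹ = (q d)⁻¹ := by
    rw [hd, map_pow, ← conj_pow, h3, inv_pow]
  have hne : q d⁻¹ ≠ q d := by
    intro e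
    rw [map_inv] at e
    refine hqd (orderOf_eq_one_iff.1 (Nat.eq_one_of_dvd_coprimes (a := p ^ a) (b := 2) ?_ ?_ ?_))
    · exact Nat.Coprime.pow_left a ((Nat.coprime_primes (Fact.out : p.Prime) Nat.prime_two).2 hp)
    · exact orderOf_dvd_of_pow_eq_one (by rw [← map_pow, hdp, map_one])
    · exact orderOf_dvd_of_pow_eq_one (by rw [pow_two]; nth_rewrite 1 [← e]; exact inv_mul_cancel _)
  set M := Subgroup.zpowers d ⊔ N with hM
  have hgM : g0 ∈ Subgroup.normalizer (M : Set G) := by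
    refine mem_normalizer_of_map_conj (Subgroup.eq_of_le_of_card_ge ?_
      (Subgroup.card_map_of_injective (MulAut.conj g0).injective).ge)
    rw [hM, Subgroup.map_sup, sup_le_iff, MonoidHom.map_zpowers, Subgroup.zpowers_le]
    refine ⟨?_, ?_⟩
    · have e : q (d * (g0 * d * g0⁻¹)) = 1 := by
        rw [map_mul, map_mul, map_mul, map_inv, hinv, mul_inv_cancel]
      rw [hq, QuotientGroup.mk'_apply, QuotientGroup.eq_one_iff] at e
      show g0 * d * g0⁻¹ ∈ _
      rw [show g0 * d * g0⁻¹ = d⁻¹ * (d * (g0 * d * g0⁻¹)) by group]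
      exact mul_mem (Subgroup.mem_sup_left (inv_mem (Subgroup.mem_zpowers d))) (Subgroup.mem_sup_right e)
    · rintro _ ⟨x, hx, rfl⟩
      exact Subgroup.mem_sup_right ((inferInstance : N.Normal).conj_mem x hx g0)
  -- a Sylow subgroup of `M` through `d`
  have hdM : d ∈ M := Subgroup.mem_sup_left (Subgroup.mem_zpowers d)
  have hzp : IsPGroup p (Subgroup.zpowers (⟨d, hdM⟩ : M)) := by
    rintro ⟨y, hy⟩
    obtain ⟨i, rfl⟩ := Subgroup.mem_zpowers_iff.1 hy
    refine ⟨a, Subtype.ext (Subtype.ext ?_)⟩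
    show ((d : G) ^ i) ^ p ^ a = 1
    rw [← zpow_natCast, ← zpow_mul, mul_comm, zpow_mul, zpow_natCast, hdp, one_zpow]
  obtain ⟨R0, hR0⟩ := hzp.exists_le_sylow
  set R := (R0 : Subgroup M).map M.subtype
  haveI : (M.subgroupOf (Subgroup.normalizer (M : Set G))).Normal := Subgroup.normal_in_normalizer
  -- the Frattini argument inside the normalizer of `M`
  obtain ⟨w, hwM, g1, hg1, hwg⟩ : ∃ w ∈ M, ∃ g1 ∈ Subgroup.normalizer (R : Set G), g0 = w * g1 := by
    set R2 := R.map (MulAut.conj g0).toMonoidHom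
    have hR2M : R2 ≤ M := by
      rintro _ ⟨x, ⟨y, -, rfl⟩, rfl⟩
      exact (Subgroup.mem_normalizer_iff.1 hgM y).1 y.2
    have hcard : Nat.card (R2.subgroupOf M) = Nat.card (R0 : Subgroup M) := by
      rw [Nat.card_congr (Subgroup.subgroupOfEquivOfLe hR2M).toEquiv,
        Subgroup.card_map_of_injective (MulAut.conj g0).injective,
        Subgroup.card_map_of_injective M.subtype_injective]
    obtain ⟨R3, hR3⟩ := ((R0.isPGroup'.map M.subtype).map (MulAut.conj g0).toMonoidHom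
      |>.of_equiv (Subgroup.subgroupOfEquivOfLe hR2M).symm).exists_le_sylow
    have hR3e : (R3 : Subgroup M) = R2.subgroupOf M :=
      (Subgroup.eq_of_le_of_card_ge hR3 (by
        rw [hcard, Sylow.card_eq_multiplicity, Sylow.card_eq_multiplicity])).symm
    obtain ⟨m, hm⟩ := MulAction.exists_smul_eq M R0 R3
    refine ⟨m, m.2, (m : G)⁻¹ * g0, ?_, by group⟩
    refine mem_normalizer_of_map_conj (Subgroup.eq_of_le_of_card_ge ?_
      (Subgroup.card_map_of_injective (MulAut.conj _).injective).ge)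
    rintro _ ⟨x, hx, rfl⟩
    have h4 : g0 * x * g0⁻¹ ∈ R2 := ⟨x, hx, rfl⟩
    have h5 : (⟨g0 * x * g0⁻¹, hR2M h4⟩ : M) ∈ (R3 : Subgroup M) := by rw [hR3e]; exact h4
    rw [← hm] at h5
    obtain ⟨y, hy, e⟩ := h5
    refine ⟨y, hy, ?_⟩
    have e' : (m : G) * y * (m : G)⁻¹ = g0 * x * g0⁻¹ := congrArg Subtype.val e
    show (y : G) = (m : G)⁻¹ * g0 * x * ((m : G)⁻¹ * g0)⁻¹
    calc (y : G) = (m : G)⁻¹ * ((m : G) * y * (m : G)⁻¹) * m := by group
      _ = _ := by rw [e']; group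
  have hdR : d ∈ R := ⟨⟨d, hdM⟩, hR0 (Subgroup.mem_zpowers _), rfl⟩
  have hqw : Commute (q w) (q d) := by
    obtain ⟨z, hz, n, hn, rfl⟩ := Subgroup.mem_sup_of_normal_right.1 hwM
    obtain ⟨i, rfl⟩ := Subgroup.mem_zpowers_iff.1 hz
    rw [map_mul, map_zpow, show q n = 1 from (QuotientGroup.eq_one_iff n).2 hn, mul_one]
    exact Commute.zpow_self _ _
  have hinv1 : q g1 * q d * (q g1)⁻¹ = (q d)⁻¹ := by
    have e : g1 = w⁻¹ * g0 := by rw [hwg]; group
    rw [e, map_mul, map_inv, mul_inv_rev, inv_inv]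
    calc (q w)⁻¹ * q g0 * q d * ((q g0)⁻¹ * q w) = (q w)⁻¹ * (q g0 * q d * (q g0)⁻¹) * q w := by group
      _ = (q w)⁻¹ * ((q d)⁻¹ * q w) := by rw [hinv, mul_assoc]
      _ = _ := by rw [← (hqw.inv_right).eq, inv_mul_cancel_left]
  obtain ⟨m, hm, hm2⟩ := exists_odd_pow g1
  have hinv2 : q (g1 ^ m) * q d * (q (g1 ^ m))⁻¹ = (q d)⁻¹ := by
    obtain ⟨i, rfl⟩ := hm
    rw [map_pow]
    clear hm2
    induction i with
    | zero => simpa using hinv1
    | succ i ih =>
      rw [show 2 * (i + 1) + 1 = (2 * i + 1) + 2 by ring, pow_add]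
      calc q g1 ^ (2 * i + 1) * q g1 ^ 2 * q d * (q g1 ^ (2 * i + 1) * q g1 ^ 2)⁻¹
          = q g1 ^ (2 * i + 1) * (q g1 * (q g1 * q d * (q g1)⁻¹) * (q g1)⁻¹) * (q g1 ^ (2 * i + 1))⁻¹ := by
            rw [pow_two]; group
        _ = _ := by
            rw [hinv1, show q g1 * (q d)⁻¹ * (q g1)⁻¹ = (q g1 * q d * (q g1)⁻¹)⁻¹ by group, hinv1,
              inv_inv, ih]
  have hNle : N ≤ H.comap q := fun x hx => by
    show q x ∈ H
    rw [show q x = 1 from (QuotientGroup.eq_one_iff x).2 hx]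
    exact one_mem _
  have hMle : M ≤ H.comap q := sup_le (Subgroup.zpowers_le.2 (by
    show q d ∈ H
    rw [hd, map_pow]; exact pow_mem hd' _)) hNle
  refine hasInverted_of_act hp (R0.isPGroup'.map M.subtype)
    ((Subgroup.map_subtype_le _).trans hMle) (g := g1 ^ m) ?_ (pow_mem hg1 _) hm2 ?_
  · refine pow_mem ?_ _
    rw [show g1 = w⁻¹ * g0 by rw [hwg]; group]
    exact mul_mem (inv_mem (hMle hwM)) hg'
  · intro hC
    have e := Subgroup.mem_centralizer_iff.1 hC d hdR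
    apply hne
    rw [map_inv, ← hinv2, ← map_mul, ← e, map_mul, mul_inv_cancel_right]

theorem pCore_quotient_pCore_eq_bot [(pCore p G).Normal] : pCore p (G ⧸ pCore p G) = ⊥ := by
  haveI := Transfer.pCore_normal (G := G ⧸ pCore p G) p
  set q := QuotientGroup.mk' (pCore p G)
  have hle : (pCore p (G ⧸ pCore p G)).comap q ≤ pCore p G := by
    refine Transfer.le_pCore (Subgroup.Normal.comap inferInstance _)
      ((Transfer.pCore_isPGroup p).comap_of_ker_isPGroup _ ?_)
    rw [QuotientGroup.ker_mk']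
    exact Transfer.pCore_isPGroup p
  rw [eq_bot_iff]
  intro y hy
  obtain ⟨x, rfl⟩ := QuotientGroup.mk'_surjective (pCore p G) y
  exact Subgroup.mem_bot.2 ((QuotientGroup.eq_one_iff x).2 (hle hy))

/-- An inverted `p`-element, `p` odd, forces one inside every `N(Z(J(T)))`. -/
theorem hasInverted_normalizer_zF (hp : p ≠ 2) (n : ℕ) :
    ∀ (G : Type u) [Group G] [Finite G], Nat.card G = n → HasInverted p (⊤ : Subgroup G) →
      ∀ T : Sylow p G, HasInverted p (Subgroup.normalizer (zF Ab (T : Subgroup G) : Set G)) := by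
  induction n using Nat.strong_induction_on with
  | _ n IH =>
  intro G _ _ hn htop T0
  by_contra hT0
  -- every Sylow subgroup is a counterexample
  have hT : ∀ T : Sylow p G, ¬ HasInverted p (Subgroup.normalizer (zF Ab (T : Subgroup G) : Set G)) := by
    intro T h
    obtain ⟨g, hg⟩ := MulAction.exists_smul_eq G T T0
    refine hT0 ?_
    have hT0e : (T0 : Subgroup G) = (T : Subgroup G).map (MulAut.conj g).toMonoidHom := by
      rw [← hg]; rfl
    refine (h.map (MulAut.conj g).toMonoidHom (MulAut.conj g).injective.injOn).mono ?_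
    rw [hT0e, zF_map _ (MulAut.conj g).injective.injOn (fun A _ => ab_conj g A) ab_bot]
    rintro _ ⟨x, hx, rfl⟩
    exact map_conj_le_normalizer g hx
  -- no proper subgroup of index prime to `p` has one
  have hlocal : ∀ H : Subgroup G, H ≠ ⊤ → HasInverted p H → ∀ R : Sylow p H,
      HasInverted p (Subgroup.normalizer
        (zF Ab ((R : Subgroup H).map H.subtype) : Set G)) := by
    intro H hH hI R
    have hlt : Nat.card H < n := by
      rw [← hn]
      exact lt_of_le_of_ne (Subgroup.card_le_card_group H) fun e => hH (Subgroup.eq_top_of_card_eq H e)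
    have h1 := (IH _ hlt H rfl (hasInverted_top_of hI) R).map H.subtype H.subtype_injective.injOn
    refine h1.mono ?_
    rw [zF_map H.subtype H.subtype_injective.injOn (fun A _ => ab_map _ (Q := ⊤)
      H.subtype_injective.injOn le_top) ab_bot]
    exact Subgroup.le_normalizer_map _
  have hover : ∀ H : Subgroup G, H ≠ ⊤ → ∀ T : Sylow p G, (T : Subgroup G) ≤ H → ¬ HasInverted p H := by
    intro H hH T hTH hI
    have h1 := hlocal H hH hI (T.subtype hTH)
    rw [Sylow.coe_subtype, Subgroup.map_subgroupOf_eq_of_le hTH] at h1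
    exact hT T h1
  -- climbing
  have hclimb : ∀ (A : Subgroup G), IsPGroup p A → ∀ H : Subgroup G, H ≠ ⊤ → A ≤ H → HasInverted p H →
      ∃ R : Subgroup G, IsPGroup p R ∧ A ≤ R ∧ R ≠ ⊥ ∧ (zF Ab R).Normal := by
    intro A hAp H0 hH0 hAH0 hI0
    have hex := (Set.toFinite {R : Subgroup G | IsPGroup p R ∧ A ≤ R ∧
        ∃ H : Subgroup G, H ≠ ⊤ ∧ R ≤ H ∧ HasInverted p H}).exists_maximal ⟨A, hAp, le_rfl, H0, hH0, hAH0, hI0⟩
    obtain ⟨R, ⟨hRp, hAR, H, hH, hRH, hI⟩, hmax⟩ := hex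
    obtain ⟨R', hR'⟩ := (hRp.of_equiv (Subgroup.subgroupOfEquivOfLe hRH).symm).exists_le_sylow
    have hRe : R = (R' : Subgroup H).map H.subtype := by
      refine le_antisymm (fun x hx => ⟨⟨x, hRH hx⟩, hR' hx, rfl⟩) (hmax ⟨R'.isPGroup'.map _, ?_,
        H, hH, Subgroup.map_subtype_le _, hI⟩ fun x hx => ⟨⟨x, hRH hx⟩, hR' hx, rfl⟩)
      exact fun x hx => ⟨⟨x, hRH (hAR hx)⟩, hR' (hAR hx), rfl⟩
    have hIN := hlocal H hH hI R'
    rw [← hRe] at hIN
    have hR1 : R ≠ ⊥ := by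
      intro h
      obtain ⟨d, hd, hd1, ⟨k, hk⟩, -⟩ := hI
      have hzp : IsPGroup p (Subgroup.zpowers (⟨d, hd⟩ : H)) := by
        rintro ⟨y, hy⟩
        obtain ⟨i, rfl⟩ := Subgroup.mem_zpowers_iff.1 hy
        refine ⟨k, Subtype.ext (Subtype.ext ?_)⟩
        show ((d : G) ^ i) ^ p ^ k = 1
        rw [← zpow_natCast, ← zpow_mul, mul_comm, zpow_mul, zpow_natCast, hk, one_zpow]
      obtain ⟨R2, hR2⟩ := hzp.exists_le_sylow
      obtain ⟨m, hm⟩ := MulAction.exists_smul_eq H R2 R'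
      have hb : (R' : Subgroup H) = ⊥ := by
        rw [← Subgroup.map_eq_bot_iff_of_injective _ H.subtype_injective, ← hRe, h]
      have : m * ⟨d, hd⟩ * m⁻¹ ∈ (R' : Subgroup H) := by
        rw [← hm]
        exact ⟨_, hR2 (Subgroup.mem_zpowers _), rfl⟩
      rw [hb, Subgroup.mem_bot, conj_eq_one_iff] at this
      exact hd1 (congrArg Subtype.val this)
    refine ⟨R, hRp, hAR, hR1, ?_⟩
    obtain ⟨T, hT'⟩ := hRp.exists_le_sylow
    rcases eq_or_lt_of_le hT' with e | hlt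
    · exact absurd (e ▸ hIN) (hT T)
    by_contra hn'
    have hN : Subgroup.normalizer (zF Ab R : Set G) ≠ ⊤ := fun e =>
      hn' (Subgroup.normalizer_eq_top_iff.1 e)
    have hgt := Transfer.lt_inf_normalizer hlt
    refine hgt.not_ge (hmax ⟨T.isPGroup'.to_le inf_le_left, hAR.trans hgt.le, _, hN, ?_, hIN⟩ hgt.le)
    exact inf_le_right.trans (normalizer_le_zF ab_conj ab_bot R)
  haveI hcn := Transfer.pCore_normal (G := G) p
  set Q := pCore p G with hQ
  have hQp : IsPGroup p Q := Transfer.pCore_isPGroup p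
  -- the core is nontrivial
  have hQ1 : Q ≠ ⊥ := by
    intro h
    obtain ⟨d, -, hd1, ⟨k, hk⟩, g, -, hgd⟩ := htop
    have hzp : IsPGroup p (Subgroup.zpowers d) := by
      rintro ⟨y, hy⟩
      obtain ⟨i, rfl⟩ := Subgroup.mem_zpowers_iff.1 hy
      refine ⟨k, Subtype.ext ?_⟩
      show (d ^ i) ^ p ^ k = 1
      rw [← zpow_natCast, ← zpow_mul, mul_comm, zpow_mul, zpow_natCast, hk, one_zpow]
    set N := Subgroup.normalizer (Subgroup.zpowers d : Set G)
    have hI : HasInverted p N := by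
      refine ⟨d, Subgroup.le_normalizer (Subgroup.mem_zpowers d), hd1, ⟨k, hk⟩, g, ?_, hgd⟩
      refine mem_normalizer_of_map_conj ?_
      rw [MonoidHom.map_zpowers]
      show Subgroup.zpowers (g * d * g⁻¹) = _
      rw [hgd, Subgroup.zpowers_inv]
    rcases em (N = ⊤) with e | e
    · haveI := Subgroup.normalizer_eq_top_iff.1 e
      exact hd1 (Subgroup.mem_bot.1 (h ▸ Transfer.le_pCore this hzp (Subgroup.mem_zpowers d)))
    · obtain ⟨R, hRp, -, hR1, hRn⟩ := hclimb ⊥ IsPGroup.of_bot N e bot_le hI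
      exact zF_ne_bot hRp hR1 (le_bot_iff.1 (h ▸ Transfer.le_pCore hRn (hRp.to_le (zF_le ab_bot R))))
  -- nothing is inverted modulo the core
  have hquot : ¬ HasInverted p (⊤ : Subgroup (G ⧸ Q)) := by
    intro hI
    set q := QuotientGroup.mk' Q
    have hlt : Nat.card (G ⧸ Q) < n := by
      rw [← hn, Subgroup.card_eq_card_quotient_mul_card_subgroup Q]
      haveI : Nontrivial Q := (Subgroup.nontrivial_iff_ne_bot Q).2 hQ1
      exact lt_mul_of_one_lt_right Nat.card_pos Finite.one_lt_card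
    let T' : Sylow p (G ⧸ Q) := T0.mapSurjective (QuotientGroup.mk'_surjective Q)
    have h1 := IH _ hlt (G ⧸ Q) rfl hI T'
    set N' := Subgroup.normalizer (zF Ab (T' : Subgroup (G ⧸ Q)) : Set (G ⧸ Q))
    rcases em (N' = ⊤) with e | e
    · have hb : zF Ab (T' : Subgroup (G ⧸ Q)) = ⊥ := le_bot_iff.1
        (pCore_quotient_pCore_eq_bot (G := G) (p := p) ▸
          Transfer.le_pCore (Subgroup.normalizer_eq_top_iff.1 e) (T'.isPGroup'.to_le (zF_le ab_bot _)))
      obtain ⟨d, -, hd1, ⟨k, hk⟩, -⟩ := hI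
      have hzp : IsPGroup p (Subgroup.zpowers d) := by
        rintro ⟨y, hy⟩
        obtain ⟨i, rfl⟩ := Subgroup.mem_zpowers_iff.1 hy
        refine ⟨k, Subtype.ext ?_⟩
        show (d ^ i) ^ p ^ k = 1
        rw [← zpow_natCast, ← zpow_mul, mul_comm, zpow_mul, zpow_natCast, hk, one_zpow]
      obtain ⟨T2, hT2⟩ := hzp.exists_le_sylow
      have hT'b : (T' : Subgroup (G ⧸ Q)) = ⊥ := by
        by_contra hne
        exact zF_ne_bot T'.isPGroup' hne hb
      obtain ⟨m, hm⟩ := MulAction.exists_smul_eq (G ⧸ Q) T2 T'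
      have : m * d * m⁻¹ ∈ (T' : Subgroup (G ⧸ Q)) := by
        rw [← hm]
        exact ⟨_, hT2 (Subgroup.mem_zpowers _), rfl⟩
      rw [hT'b, Subgroup.mem_bot, conj_eq_one_iff] at this
      exact hd1 this
    · refine hover (N'.comap q) ?_ T0 ?_ (h1.comap hp Q)
      · intro e'
        refine e ?_
        rw [← Subgroup.map_comap_eq_self_of_surjective (QuotientGroup.mk'_surjective Q) N', e',
          Subgroup.map_top_of_surjective _ (QuotientGroup.mk'_surjective Q)]
      · intro x hx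
        exact normalizer_le_zF ab_conj ab_bot _ (Subgroup.le_normalizer ⟨x, hx, rfl⟩)
  -- so some element of the core is inverted by an element of two power order
  obtain ⟨d, g, hdQ, hd1, hg2, hgd⟩ : ∃ d g : G, d ∈ Q ∧ d ≠ 1 ∧ (∃ j, orderOf g = 2 ^ j) ∧
      g * d * g⁻¹ = d⁻¹ := by
    obtain ⟨d, -, hd1, ⟨k, hk⟩, g, -, hgd⟩ := htop
    obtain ⟨s, hs, hsd⟩ := Solv.exists_two_inverter hgd
    refine ⟨d, s, ?_, hd1, hs, hsd⟩
    rw [← QuotientGroup.eq_one_iff]
    by_contra hne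
    refine hquot ⟨(d : G ⧸ Q), trivial, hne, ⟨k, by rw [← QuotientGroup.mk_pow, hk, QuotientGroup.mk_one]⟩,
      (g : G ⧸ Q), trivial, ?_⟩
    rw [← QuotientGroup.mk_inv, ← QuotientGroup.mk_mul, ← QuotientGroup.mk_mul, hgd, QuotientGroup.mk_inv]
  have hgC : g ∉ Subgroup.centralizer (Q : Set G) := fun h => by
    have e := Subgroup.mem_centralizer_iff.1 h d hdQ
    rw [← e, mul_inv_cancel_right] at hgd
    obtain ⟨k, hk⟩ := hQp ⟨d, hdQ⟩
    refine hd1 (orderOf_eq_one_iff.1 (Nat.eq_one_of_dvd_coprimes (a := p ^ k) (b := 2) ?_ ?_ ?_))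
    · exact Nat.Coprime.pow_left k ((Nat.coprime_primes (Fact.out : p.Prime) Nat.prime_two).2 hp)
    · exact orderOf_dvd_of_pow_eq_one (congrArg Subtype.val hk)
    · exact orderOf_dvd_of_pow_eq_one (by rw [pow_two]; nth_rewrite 1 [hgd]; exact inv_mul_cancel d)
  -- Sylow intersections with normal subgroups
  have hinter : ∀ (N : Subgroup G) [N.Normal] (T : Sylow p G),
      (∀ x ∈ N, (∃ j, orderOf x = 2 ^ j) → x ∈ Subgroup.centralizer (Q : Set G)) →
      (T : Subgroup G) ⊓ N ≤ Q := by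
    intro N _ T hN2
    obtain ⟨R, hR⟩ := Solv.sylow_inf_subnormal (H := N) (Subgroup.Normal.isSubnormal inferInstance) T
    set X := (T : Subgroup G) ⊓ N with hX
    have hRX : (R : Subgroup N).map N.subtype = X := by rw [hR, Subgroup.subgroupOf_map_subtype]
    have hfr : Subgroup.normalizer (X : Set G) ⊔ N = ⊤ := by rw [← hRX]; exact R.normalizer_sup_eq_top
    rcases em (Subgroup.normalizer (X : Set G) = ⊤) with e | e
    · exact Transfer.le_pCore (Subgroup.normalizer_eq_top_iff.1 e) (T.isPGroup'.to_le inf_le_left)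
    exfalso
    have hTN : (T : Subgroup G) ≤ Subgroup.normalizer (X : Set G) := fun t ht => by
      refine mem_normalizer_of_map_conj (Subgroup.eq_of_le_of_card_ge ?_
        (Subgroup.card_map_of_injective (MulAut.conj t).injective).ge)
      rintro _ ⟨x, ⟨hxT, hxN⟩, rfl⟩
      exact ⟨(T : Subgroup G).mul_mem ((T : Subgroup G).mul_mem ht hxT) ((T : Subgroup G).inv_mem ht), (inferInstance : N.Normal).conj_mem x hxN t⟩
    refine hover _ e T hTN ?_
    obtain ⟨m, hm, v, hv, hgmv⟩ := Subgroup.mem_sup_of_normal_right.1 (hfr ▸ Subgroup.mem_top g)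
    obtain ⟨i, hi, hmi⟩ := exists_odd_pow m
    refine hasInverted_of_act hp hQp ((Transfer.pCore_le_sylow T).trans hTN) (pow_mem hm i) ?_ hmi ?_
    · rw [Subgroup.normalizer_eq_top]; trivial
    intro hmC
    set C := Subgroup.centralizer (Q : Set G)
    haveI : C.Normal := inferInstance
    obtain ⟨j, hj⟩ := hg2
    have hgN : g ∈ C ⊔ N := by
      rw [← QuotientGroup.eq_one_iff]
      have e2 : (g : G ⧸ (C ⊔ N)) = (m : G ⧸ (C ⊔ N)) := by
        rw [← hgmv, QuotientGroup.mk_mul, (QuotientGroup.eq_one_iff v).2 (Subgroup.mem_sup_right hv), mul_one]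
      refine orderOf_eq_one_iff.1 (Nat.eq_one_of_dvd_coprimes (a := 2 ^ j) (b := i) ?_ ?_ ?_)
      · exact Nat.Coprime.pow_left j (Nat.coprime_two_left.2 hi)
      · exact orderOf_dvd_of_pow_eq_one (by
          rw [← QuotientGroup.mk_pow, ← hj, pow_orderOf_eq_one, QuotientGroup.mk_one])
      · refine orderOf_dvd_of_pow_eq_one ?_
        rw [e2, ← QuotientGroup.mk_pow]
        exact (QuotientGroup.eq_one_iff _).2 (Subgroup.mem_sup_left hmC)
    obtain ⟨c, hc, v', hv', hgcv⟩ := Subgroup.mem_sup_of_normal_right.1 hgN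
    obtain ⟨i', hi', hvi⟩ := exists_odd_pow v'
    have h3 : v' ^ i' ∈ C := hN2 _ (pow_mem hv' _) hvi
    refine hgC ?_
    have e3 : (g : G ⧸ C) = (v' : G ⧸ C) := by
      rw [← hgcv, QuotientGroup.mk_mul, (QuotientGroup.eq_one_iff c).2 hc, one_mul]
    rw [← QuotientGroup.eq_one_iff]
    refine orderOf_eq_one_iff.1 (Nat.eq_one_of_dvd_coprimes (a := 2 ^ j) (b := i') ?_ ?_ ?_)
    · exact Nat.Coprime.pow_left j (Nat.coprime_two_left.2 hi')
    · exact orderOf_dvd_of_pow_eq_one (by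
        rw [← QuotientGroup.mk_pow, ← hj, pow_orderOf_eq_one, QuotientGroup.mk_one])
    · refine orderOf_dvd_of_pow_eq_one ?_
      rw [e3, ← QuotientGroup.mk_pow]
      exact (QuotientGroup.eq_one_iff _).2 h3
  have hinter' : ∀ (N : Subgroup G) [N.Normal] (T : Sylow p G),
      N ⊔ (T : Subgroup G) ≠ ⊤ → (T : Subgroup G) ⊓ N ≤ Q := by
    intro N _ T hNT
    refine hinter N T fun x hx hx2 => ?_
    by_contra hxC
    refine hover _ hNT T le_sup_right (hasInverted_of_act hp hQp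
      ((Transfer.pCore_le_sylow T).trans le_sup_right) (Subgroup.mem_sup_left hx) ?_ hx2 hxC)
    rw [Subgroup.normalizer_eq_top]; trivial
  have hZT : ∀ T : Sylow p G, ¬ (zF Ab (T : Subgroup G)).Normal := by
    intro T h
    refine hT T ?_
    rw [Subgroup.normalizer_eq_top_iff.2 h]
    exact htop
  -- the witness
  haveI : (Subgroup.centralizer (Q : Set G)).Normal := inferInstance
  haveI := Transfer.pCore_normal (G := G ⧸ Subgroup.centralizer (Q : Set G)) p
  obtain ⟨B, hBn, hBp, A, hA, a, haA, hquad, hbad⟩ := exists_witness hp T0 (hZT T0)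
    (hinter _ T0 fun x hx hx2 => by
      obtain ⟨j, hj⟩ := hx2
      obtain ⟨k, hk⟩ := Transfer.pCore_isPGroup p ⟨_, hx⟩
      rw [← QuotientGroup.eq_one_iff]
      refine orderOf_eq_one_iff.1 (Nat.eq_one_of_dvd_coprimes (a := 2 ^ j) (b := p ^ k) ?_ ?_ ?_)
      · exact Nat.Coprime.pow j k ((Nat.coprime_primes Nat.prime_two (Fact.out : p.Prime)).2 hp.symm)
      · exact orderOf_dvd_of_pow_eq_one (by
          rw [← QuotientGroup.mk_pow, ← hj, pow_orderOf_eq_one, QuotientGroup.mk_one])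
      · exact orderOf_dvd_of_pow_eq_one (congrArg Subtype.val hk))
  haveI := hBn
  have hBQ : B ≤ Q := Transfer.le_pCore hBn hBp
  have haQ : a ∉ Q := fun h => hbad (Cfsg.Lib.Solv.le_pCore (Subgroup.Normal.map hcn
    (QuotientGroup.mk' _) (QuotientGroup.mk'_surjective _)) (hQp.map _) ⟨a, h, rfl⟩)
  obtain ⟨N, hNn, hCN, s0, hs0, hs2, hsa⟩ := hasCommInvolution hp _ G B hBp rfl a hquad hbad
  haveI := hNn
  obtain ⟨i, hi, hsi⟩ := exists_odd_pow s0
  set s := s0 ^ i with hsdef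
  have hsN : s ∉ N := by
    intro h
    refine hs0 ?_
    rw [← QuotientGroup.eq_one_iff] at h ⊢
    rw [← QuotientGroup.eq_one_iff, QuotientGroup.mk_pow] at hs2
    rw [hsdef, QuotientGroup.mk_pow] at h
    exact orderOf_eq_one_iff.1 (Nat.eq_one_of_dvd_coprimes (Nat.coprime_two_left.2 hi)
      (orderOf_dvd_of_pow_eq_one hs2) (orderOf_dvd_of_pow_eq_one h))
  have hsx : Commute (s : G ⧸ N) (a : G ⧸ N) := by
    rw [hsdef, QuotientGroup.mk_pow]
    refine Commute.pow_left (commutatorElement_eq_one_iff_mul_comm.1 ?_) i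
    have := (QuotientGroup.eq_one_iff _).2 hsa
    rwa [← QuotientGroup.mk'_apply, map_commutatorElement] at this
  have hNT : N ⊔ (T0 : Subgroup G) ≠ ⊤ := by
    intro e
    refine hsN ?_
    obtain ⟨j, hj⟩ := hsi
    obtain ⟨u, hu, t, ht, e2⟩ := Subgroup.mem_sup_of_normal_left.1 (e ▸ Subgroup.mem_top s)
    obtain ⟨k, hk⟩ := T0.isPGroup' ⟨t, ht⟩
    have e3 : (s : G ⧸ N) = (t : G ⧸ N) := by
      rw [← e2, QuotientGroup.mk_mul, (QuotientGroup.eq_one_iff u).2 hu, one_mul]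
    rw [← QuotientGroup.eq_one_iff]
    refine orderOf_eq_one_iff.1 (Nat.eq_one_of_dvd_coprimes (a := 2 ^ j) (b := p ^ k) ?_ ?_ ?_)
    · exact Nat.Coprime.pow j k ((Nat.coprime_primes Nat.prime_two (Fact.out : p.Prime)).2 hp.symm)
    · exact orderOf_dvd_of_pow_eq_one (by
        rw [← QuotientGroup.mk_pow, ← hj, pow_orderOf_eq_one, QuotientGroup.mk_one])
    · refine orderOf_dvd_of_pow_eq_one ?_
      rw [e3, ← QuotientGroup.mk_pow]
      exact (QuotientGroup.eq_one_iff _).2 (by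
        rw [show t ^ p ^ k = 1 from congrArg Subtype.val hk]; exact one_mem _)
  have hTNQ := hinter' N T0 hNT
  have haT : a ∈ (T0 : Subgroup G) := hA.1 haA
  set X := Q ⊔ Subgroup.zpowers a with hX
  have hXT : X ≤ (T0 : Subgroup G) := sup_le (Transfer.pCore_le_sylow T0) (Subgroup.zpowers_le.2 haT)
  set W := N ⊔ X with hW
  have hWT : (T0 : Subgroup G) ⊓ W = X := by
    refine le_antisymm ?_ (le_inf hXT le_sup_right)
    rintro y ⟨hyT, hyW⟩
    obtain ⟨u, hu, v, hv, rfl⟩ := Subgroup.mem_sup_of_normal_left.1 hyW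
    have hu2 : u ∈ (T0 : Subgroup G) := by
      have := (T0 : Subgroup G).mul_mem hyT ((T0 : Subgroup G).inv_mem (hXT hv))
      rwa [mul_inv_cancel_right] at this
    exact mul_mem (Subgroup.mem_sup_left (hTNQ ⟨hu2, hu⟩)) hv
  have haX : a ∈ X := Subgroup.mem_sup_right (Subgroup.mem_zpowers a)
  have hsW : s ∈ Subgroup.normalizer (W : Set G) := by
    refine mem_normalizer_of_map_conj (Subgroup.eq_of_le_of_card_ge ?_
      (Subgroup.card_map_of_injective (MulAut.conj s).injective).ge)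
    rw [hW, hX, Subgroup.map_sup, Subgroup.map_sup, sup_le_iff, sup_le_iff, MonoidHom.map_zpowers,
      Subgroup.zpowers_le]
    refine ⟨?_, ?_, ?_⟩
    · rintro _ ⟨x, hx, rfl⟩
      exact Subgroup.mem_sup_left (hNn.conj_mem x hx s)
    · rintro _ ⟨x, hx, rfl⟩
      exact Subgroup.mem_sup_right (Subgroup.mem_sup_left (hcn.conj_mem x hx s))
    · show s * a * s⁻¹ ∈ _
      rw [show s * a * s⁻¹ = (s * a * s⁻¹ * a⁻¹) * a by group]
      refine mul_mem (Subgroup.mem_sup_left ?_) (Subgroup.mem_sup_right haX)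
      rw [← QuotientGroup.eq_one_iff]
      simp only [QuotientGroup.mk_mul, QuotientGroup.mk_inv]
      rw [hsx.eq, mul_inv_cancel_right, mul_inv_cancel]
  -- the Frattini argument in the normalizer of `W`
  set M := Subgroup.normalizer (W : Set G)
  haveI : (W.subgroupOf M).Normal := Subgroup.normal_in_normalizer
  have hWM : W ≤ M := Subgroup.le_normalizer
  have hXW : X ≤ W := le_sup_right
  obtain ⟨R, hR⟩ := ((T0.isPGroup'.to_le hXT).of_equiv (Subgroup.subgroupOfEquivOfLe hXW).symm).exists_le_sylow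
  have hRX : (R : Subgroup W).map W.subtype = X := by
    refine le_antisymm ?_ fun x hx => ⟨⟨x, hXW hx⟩, hR hx, rfl⟩
    obtain ⟨T1, hT1⟩ := (R.isPGroup'.map W.subtype).exists_le_sylow
    have hT1W : (T1 : Subgroup G) ⊓ W ≤ Q ⊔ Subgroup.zpowers a := by
      rintro y ⟨hyT, hyW⟩
      obtain ⟨u, hu, v, hv, rfl⟩ := Subgroup.mem_sup_of_normal_left.1 hyW
      have hu2 : u ∈ (T1 : Subgroup G) := by
        have hv1 : v ∈ (T1 : Subgroup G) := hT1 ⟨⟨v, hXW hv⟩, hR hv, rfl⟩
        have := (T1 : Subgroup G).mul_mem hyT ((T1 : Subgroup G).inv_mem hv1)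
        rwa [mul_inv_cancel_right] at this
      have hNT1 : N ⊔ (T1 : Subgroup G) ≠ ⊤ := by
        obtain ⟨g1, hg1⟩ := MulAction.exists_smul_eq G T1 T0
        intro e
        refine hNT (eq_top_iff.2 fun z _ => ?_)
        have h4 : (N ⊔ (T1 : Subgroup G)).map (MulAut.conj g1).toMonoidHom ≤ N ⊔ (T0 : Subgroup G) := by
          rw [Subgroup.map_sup, sup_le_iff]
          refine ⟨?_, ?_⟩
          · rintro _ ⟨x, hx, rfl⟩
            exact Subgroup.mem_sup_left (hNn.conj_mem x hx g1)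
          · rintro _ ⟨x, hx, rfl⟩
            refine Subgroup.mem_sup_right ?_
            rw [← hg1]
            exact ⟨x, hx, rfl⟩
        exact h4 ⟨g1⁻¹ * z * g1, e ▸ Subgroup.mem_top _, by simp [mul_assoc]⟩
      exact mul_mem (Subgroup.mem_sup_left (hinter' N T1 hNT1 ⟨hu2, hu⟩)) hv
    intro y hy
    exact hT1W ⟨hT1 hy, Subgroup.map_subtype_le _ hy⟩
  obtain ⟨w, hwW, m, hmX, hswm⟩ : ∃ w ∈ W, ∃ m ∈ Subgroup.normalizer (X : Set G), s = w * m := by
    set R2 := X.map (MulAut.conj s).toMonoidHom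
    have hR2W : R2 ≤ W := by
      rintro _ ⟨x, hx, rfl⟩
      exact (Subgroup.mem_normalizer_iff.1 hsW x).1 (hXW hx)
    obtain ⟨R3, hR3⟩ := (((T0.isPGroup'.to_le hXT).map (MulAut.conj s).toMonoidHom).of_equiv
      (Subgroup.subgroupOfEquivOfLe hR2W).symm).exists_le_sylow
    have hR3e : (R3 : Subgroup W) = R2.subgroupOf W := by
      refine (Subgroup.eq_of_le_of_card_ge hR3 ?_).symm
      rw [Nat.card_congr (Subgroup.subgroupOfEquivOfLe hR2W).toEquiv,
        Subgroup.card_map_of_injective (MulAut.conj s).injective, ← hRX,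
        Subgroup.card_map_of_injective W.subtype_injective, Sylow.card_eq_multiplicity,
        Sylow.card_eq_multiplicity]
    obtain ⟨w, hw⟩ := MulAction.exists_smul_eq W R R3
    refine ⟨w, w.2, (w : G)⁻¹ * s, ?_, by group⟩
    refine mem_normalizer_of_map_conj (Subgroup.eq_of_le_of_card_ge ?_
      (Subgroup.card_map_of_injective (MulAut.conj _).injective).ge)
    rintro _ ⟨x, hx, rfl⟩
    have h4 : s * x * s⁻¹ ∈ R2 := ⟨x, hx, rfl⟩
    have h5 : (⟨s * x * s⁻¹, hR2W h4⟩ : W) ∈ (R3 : Subgroup W) := by rw [hR3e]; exact h4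
    rw [← hw] at h5
    obtain ⟨y, hy, e⟩ := h5
    have hyX : (y : G) ∈ X := hRX ▸ ⟨y, hy, rfl⟩
    have e' : (w : G) * y * (w : G)⁻¹ = s * x * s⁻¹ := congrArg Subtype.val e
    show (w : G)⁻¹ * s * x * ((w : G)⁻¹ * s)⁻¹ ∈ X
    rw [show (w : G)⁻¹ * s * x * ((w : G)⁻¹ * s)⁻¹ = (w : G)⁻¹ * (s * x * s⁻¹) * w by group, ← e']
    rwa [show (w : G)⁻¹ * ((w : G) * y * (w : G)⁻¹) * w = y by group]
  have hIX : HasInverted p (Subgroup.normalizer (X : Set G)) := by
    obtain ⟨k, hk, hmk⟩ := exists_odd_pow m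
    refine hasInverted_of_act hp (T0.isPGroup'.to_le hXT) Subgroup.le_normalizer (pow_mem hmX k)
      (pow_mem hmX k) hmk ?_
    intro hmC
    have hmN : m ^ k ∈ N := hCN (Subgroup.centralizer_le (hBQ.trans le_sup_left) hmC)
    have hm2 : m ∈ M := by
      rw [show m = w⁻¹ * s by rw [hswm]; group]
      exact mul_mem (inv_mem (hWM hwW)) hsW
    let qM := QuotientGroup.mk' (W.subgroupOf M)
    have e1 : qM ⟨s, hsW⟩ = qM ⟨m, hm2⟩ := by
      rw [show (⟨s, hsW⟩ : M) = ⟨w, hWM hwW⟩ * ⟨m, hm2⟩ from Subtype.ext hswm, map_mul,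
        show qM ⟨w, hWM hwW⟩ = 1 from (QuotientGroup.eq_one_iff _).2 hwW, one_mul]
    obtain ⟨j, hj⟩ := hsi
    have hsW' : s ∈ W := by
      show (⟨s, hsW⟩ : M) ∈ W.subgroupOf M
      refine (QuotientGroup.eq_one_iff (N := W.subgroupOf M) (⟨s, hsW⟩ : M)).1 (orderOf_eq_one_iff.1
        (Nat.eq_one_of_dvd_coprimes (a := 2 ^ j) (b := k) ?_ ?_ ?_))
      · exact Nat.Coprime.pow_left j (Nat.coprime_two_left.2 hk)
      · refine orderOf_dvd_of_pow_eq_one ?_
        show (qM ⟨s, hsW⟩) ^ 2 ^ j = 1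
        rw [← map_pow]
        refine (QuotientGroup.eq_one_iff _).2 ?_
        show s ^ 2 ^ j ∈ W
        rw [← hj, pow_orderOf_eq_one]
        exact one_mem _
      · refine orderOf_dvd_of_pow_eq_one ?_
        show (qM ⟨s, hsW⟩) ^ k = 1
        rw [e1, ← map_pow]
        exact (QuotientGroup.eq_one_iff _).2 (Subgroup.mem_sup_left hmN)
    refine hsN ?_
    obtain ⟨u, hu, v, hv, e2⟩ := Subgroup.mem_sup_of_normal_left.1 hsW'
    obtain ⟨l, hl⟩ := T0.isPGroup' ⟨v, hXT hv⟩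
    have e3 : (s : G ⧸ N) = (v : G ⧸ N) := by
      rw [← e2, QuotientGroup.mk_mul, (QuotientGroup.eq_one_iff u).2 hu, one_mul]
    rw [← QuotientGroup.eq_one_iff]
    refine orderOf_eq_one_iff.1 (Nat.eq_one_of_dvd_coprimes (a := 2 ^ j) (b := p ^ l) ?_ ?_ ?_)
    · exact Nat.Coprime.pow j l ((Nat.coprime_primes Nat.prime_two (Fact.out : p.Prime)).2 hp.symm)
    · exact orderOf_dvd_of_pow_eq_one (by
        rw [← QuotientGroup.mk_pow, ← hj, pow_orderOf_eq_one, QuotientGroup.mk_one])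
    · refine orderOf_dvd_of_pow_eq_one ?_
      rw [e3, ← QuotientGroup.mk_pow]
      exact (QuotientGroup.eq_one_iff _).2 (by
        rw [show v ^ p ^ l = 1 from congrArg Subtype.val hl]; exact one_mem _)
  have hXne : Subgroup.normalizer (X : Set G) ≠ ⊤ := fun e =>
    haQ (Transfer.le_pCore (Subgroup.normalizer_eq_top_iff.1 e) (T0.isPGroup'.to_le hXT) haX)
  have hAN : A ≤ Subgroup.normalizer (X : Set G) := fun b hb => by
    refine mem_normalizer_of_map_conj (Subgroup.eq_of_le_of_card_ge ?_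
      (Subgroup.card_map_of_injective (MulAut.conj b).injective).ge)
    rw [hX, Subgroup.map_sup, sup_le_iff, MonoidHom.map_zpowers, Subgroup.zpowers_le]
    refine ⟨?_, ?_⟩
    · rintro _ ⟨x, hx, rfl⟩
      exact Subgroup.mem_sup_left (hcn.conj_mem x hx b)
    · show b * a * b⁻¹ ∈ _
      rw [hA.2.1 b hb a haA, mul_inv_cancel_right]
      exact haX
  obtain ⟨R', hR'p, hAR', hR'1, hZn⟩ := hclimb A (T0.isPGroup'.to_le hA.1) _ hXne hAN hIX
  obtain ⟨T', hT'⟩ := hR'p.exists_le_sylow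
  set Z1 := zF Ab R'
  have hAT' : A ∈ maxF Ab (T' : Subgroup G) := by
    refine ⟨hAR'.trans hT', hA.2.1, fun C hC hCab => ?_⟩
    obtain ⟨g1, hg1⟩ := MulAction.exists_smul_eq G T' T0
    have h1 : C.map (MulAut.conj g1).toMonoidHom ≤ (T0 : Subgroup G) := by
      rw [← hg1]
      exact Subgroup.map_mono hC
    have := hA.2.2 _ h1 ((ab_conj g1 C).1 hCab)
    rwa [Subgroup.card_map_of_injective (MulAut.conj g1).injective] at this
  have hAR1 : A ∈ maxF Ab R' := ⟨hAR', hA.2.1, fun C hC hCab => hAT'.2.2 C (hC.trans hT') hCab⟩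
  have hZle : zF Ab (T' : Subgroup G) ≤ Z1 := zF_mono hT' hAT' hAR'
  set C1 := Subgroup.centralizer (Z1 : Set G)
  haveI : C1.Normal := inferInstance
  have hC1 : C1 ⊔ (T' : Subgroup G) = ⊤ := by
    by_contra hne
    refine haQ (hinter' C1 T' hne ⟨hAT'.1 haA, Subgroup.mem_centralizer_iff.2 fun z hz => ?_⟩)
    exact hA.2.1 z (sInf_le hAR1 hz) a haA
  refine hZT T' (Subgroup.normalizer_eq_top_iff.1 (eq_top_iff.2 (hC1 ▸ sup_le ?_ ?_)))
  · intro c hc
    refine Subgroup.mem_normalizer_iff.2 fun x => ⟨fun hx => ?_, fun hx => ?_⟩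
    · rwa [← Subgroup.mem_centralizer_iff.1 hc x (hZle hx), mul_inv_cancel_right]
    · have h1 := Subgroup.mem_centralizer_iff.1 hc _ (hZle hx)
      have h2 : c * x * c⁻¹ = x := by
        calc c * x * c⁻¹ = c⁻¹ * ((c * x * c⁻¹) * c) := by rw [h1]; group
          _ = x := by group
      rwa [h2] at hx
  · exact Subgroup.le_normalizer.trans (normalizer_le_zF ab_conj ab_bot _)

end Finite

end Cfsg.Lib.Inverted
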